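import Cfsg.Agent.Lib.ES.Z1
import Cfsg.Agent.Lib.Twisted.F4
import Cfsg.Agent.Lib.Twisted.Invol

/-!
# S3328: definitions for `L = F₄(q)`, `q` even.  See `docs/F4S.md`.
Roots are `Fin 48` (`RF4`), `ec r` = twice the usual coordinates.  `47 = e₁+e₂`, `46 = e₁+e₃`, `45 = e₁+e₄`, `43 = e₁-e₄`, `42 = e₁-e₃`, `41 = e₁-e₂`, `32 = e₂+e₃`, `31 = e₂+e₄`,
`30 = e₃+e₄`, `26 = e₂-e₄`, `25 = e₃-e₄`, `24 = e₂-e₃` (long); `44 = e₁`, `29 = e₂`, `28 = e₃`, `27 = e₄`, `33 … 40 = ½(+---), (+--+), (+-+-), (++--), (+-++), (++-+), (+++-), (++++)`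
(short); `-r = 47 - r = r.rev`.  All root facts are `decide`d on `ec` (`revert` the roots, `decide +kernel`).
-/

set_option autoImplicit false

namespace Cfsg.Lib.F4S

open Subgroup Cfsg.Lib.Chev Cfsg.Lib.BG Cfsg.Lib.Twisted
open ES (QA K0)
open scoped Cfsg.Lib.Transfer commutatorElement

/-- Twice the coordinates. -/
def ec : Fin 48 → Fin 4 → ℤ := ![![-2,-2,0,0], ![-2,0,-2,0], ![-2,0,0,-2], ![-2,0,0,0], ![-2,0,0,2], ![-2,0,2,0], ![-2,2,0,0], ![-1,-1,-1,-1],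
  ![-1,-1,-1,1], ![-1,-1,1,-1], ![-1,1,-1,-1], ![-1,-1,1,1], ![-1,1,-1,1], ![-1,1,1,-1], ![-1,1,1,1], ![0,-2,-2,0], ![0,-2,0,-2], ![0,0,-2,-2],
  ![0,-2,0,0], ![0,0,-2,0], ![0,0,0,-2], ![0,-2,0,2], ![0,0,-2,2], ![0,-2,2,0], ![0,2,-2,0], ![0,0,2,-2], ![0,2,0,-2], ![0,0,0,2], ![0,0,2,0],
  ![0,2,0,0], ![0,0,2,2], ![0,2,0,2], ![0,2,2,0], ![1,-1,-1,-1], ![1,-1,-1,1], ![1,-1,1,-1], ![1,1,-1,-1], ![1,-1,1,1], ![1,1,-1,1], ![1,1,1,-1],
  ![1,1,1,1], ![2,-2,0,0], ![2,0,-2,0], ![2,0,0,-2], ![2,0,0,0], ![2,0,0,2], ![2,0,2,0], ![2,2,0,0]]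

/-- Four times the inner product. -/
def ip (r k : Fin 48) : ℤ := ec r 0 * ec k 0 + ec r 1 * ec k 1 + ec r 2 * ec k 2 + ec r 3 * ec k 3
/-- Short roots. -/
abbrev sh (r : Fin 48) : Prop := ip r r = 4
/-- `j = r + k`. -/
abbrev Ad (j r k : Fin 48) : Prop := ∀ i, ec j i = ec r i + ec k i
/-- `j = r + 2 k`. -/
abbrev Ad2 (j r k : Fin 48) : Prop := ∀ i, ec j i = ec r i + 2 * ec k i
/-- Pairs that commute in all three overgroups. -/
abbrev Cm0 (r k : Fin 48) : Prop := 0 < ip r k ∨ ip r k = 0 ∧ ¬ (sh r ∧ sh k)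
/-- The duality on the roots. -/
def du : Fin 48 → Fin 48 := ![3, 7, 8, 0, 9, 11, 18, 1, 2, 4, 15, 5, 16, 21, 23, 10, 12, 19, 6, 17, 22, 13, 20, 14, 33, 27, 34, 25, 30, 41, 28, 35, 37, 24,
  26, 31, 42, 32, 43, 45, 46, 29, 36, 38, 47, 39, 40, 44]
/-- The level of a positive root: `XS {n ≤ lv}` is the upper and lower central series of `U`. -/
def lv : Fin 48 → ℕ := ![0, 0, 0, 0, 0, 0, 0, 0, 0, 0, 0, 0, 0, 0, 0, 0, 0, 0, 0, 0, 0, 0, 0, 0, 1, 1, 2, 1, 2, 3, 2, 3, 4, 1, 2, 3, 4, 4, 5, 6, 7, 3, 4, 5,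
  8, 6, 7, 8]

/-- The parameters of the long roots are fixed by `s`. -/
abbrev Ok {A : Type*} [CommRing A] (s : A ≃+* A) (r : Fin 48) (a : A) : Prop := sh r ∨ s a = a

/-- The relations of `F₄` (`s = 1`) and of `²E₆`, `E₆` (`s = star`) in characteristic two. -/
structure MR {A G : Type*} [CommRing A] [Group G] (s : A ≃+* A) (y : Fin 48 → A → G) : Prop where
  add : ∀ r a b, Ok s r a → Ok s r b → y r (a + b) = y r a * y r b
  com : ∀ r k a b, Cm0 r k → Ok s r a → Ok s k b → y r a * y k b = y k b * y r a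
  ss : ∀ r k j a b, sh r → sh k → sh j → Ad j r k → ⁅y r a, y k b⁆ = y j (s (a * b))
  so : ∀ r k j a b, sh r → sh k → ¬ sh j → Ad j r k → ⁅y r a, y k b⁆ = y j (a * s b + s a * b)
  ll : ∀ r k j a b, ¬ sh r → ¬ sh k → Ad j r k → s a = a → s b = b → ⁅y r a, y k b⁆ = y j (a * b)
  ls : ∀ r k j i a b, ¬ sh r → sh k → Ad j r k → Ad2 i r k → s a = a → ⁅y r a, y k b⁆ = y j (a * b) * y i (a * (b * s b))

/-- The group generated by the family. -/
def gen {A G : Type*} [CommRing A] [Group G] (s : A ≃+* A) (y : Fin 48 → A → G) (S : Set (Fin 48)) : Subgroup G :=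
  closure {g | ∃ r ∈ S, ∃ a, Ok s r a ∧ y r a = g}

variable {F G : Type*} [Field F] [Group G]

/-- A faithful system of type `F₄` in characteristic two. -/
structure FC (C : ChevSys RF4 F G) : Prop where
  faith : C.Faithful
  rel : MR (RingEquiv.refl F) C.x

/-- `C'` is the dual system. -/
def Du (C C' : ChevSys RF4 F G) : Prop := ∀ r c, C'.x r c = C.x (du r) (if sh r then c ^ 2 else c)

/-- The generator of the types. -/
def ph (p : Fin 48 × F) : Fin 48 × F := (du p.1, if sh p.1 then p.2 ^ 2 else p.2)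

/-- `g` acts as the standard automorphism of type `k`: the duality for `k = 1`, `c ↦ c ^ 2 ^ m` for `k = 2 m`. -/
def Sk (C : ChevSys RF4 F G) (g : G) (k : ℕ) : Prop := ∀ r c, g * C.x r c * g⁻¹ = C.x (ph^[k] (r, c)).1 (ph^[k] (r, c)).2

/-- `L = C.grp` is normal in `C(t)`, `t` is the only involution of `K = C(t) ⊓ C(L)`. -/
structure St (C : ChevSys RF4 F G) (t : G) : Prop extends FC C where
  t2 : t * t = 1
  t1 : t ≠ 1
  tx : ∀ r a, t * C.x r a = C.x r a * t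
  cn : ∀ g, g * t = t * g → g ∈ 𝐍(C.grp)
  kinv : ∀ g, K0 C t g → g * g = 1 → g = 1 ∨ g = t

/-- `K = O ∪ t O`, `O` of odd order. -/
structure S1 (C : ChevSys RF4 F G) (t : G) (O : Subgroup G) : Prop extends St C t where
  odd : Odd (Nat.card O)
  Ok : ∀ o ∈ O, K0 C t o
  K0 : ∀ g, K0 C t g → g ∈ O ∨ t * g ∈ O

/-- For a short root `a`: `p` moves `t` to `t x_a(d)`, centralizes the `X_k` with `Cm0 a k` and multiplies `x_k(c)`, `k ⊥ a` short, by `x_{a+k}(κ d c)`. -/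
structure E (C : ChevSys RF4 F G) (t : G) (κ : F) (a : Fin 48) (p : G) (d : F) : Prop where
  cx : ∀ k c, Cm0 a k → p * C.x k c = C.x k c * p
  co : ∀ k j c, sh k → ¬ sh j → Ad j a k → p * C.x k c * p⁻¹ = C.x k c * C.x j (κ * d * c)
  ct : p * t * p⁻¹ = t * C.x a d

/-- The doubled root groups: `s = 1` (all roots doubled) or `s = star` (the short roots doubled). -/
structure ZD (C : ChevSys RF4 F G) (t : G) (O : Subgroup G) (ν : F) (s : QA ν ≃+* QA ν) (y : Fin 48 → QA ν → G) : Prop extends S1 C t O where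
  yrel : MR s y
  ext : ∀ r c, y r ⟨c, 0⟩ = C.x r c
  ct : ∀ r a, F4S.Ok s r a → t * y r a * t = y r (star a)
  cO : ∀ o ∈ O, ∀ r a, F4S.Ok s r a → o * y r a = y r a * o

/-- The two cases. -/
def Kind (C : ChevSys RF4 F G) (t : G) {ν : F} (s : QA ν ≃+* QA ν) : Prop :=
  s = RingEquiv.refl _ ∨ (∀ a, s a = star a) ∧ ¬ IsConj t (t * C.x 47 1)

theorem ec_eq : ∀ (r : Fin 48) (i : Fin 4), ec r i = ![RF4.α r 0, -RF4.α r 0 + 2 * RF4.α r 3, -RF4.α r 0 + 2 * RF4.α r 2 - 2 * RF4.α r 3,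
    -RF4.α r 0 + 2 * RF4.α r 1 - 2 * RF4.α r 2] i := by
  change ∀ (r : Fin 48) (i : Fin 4), ec r i = ![aN Lie.chevF4 certF4 r 0, -aN Lie.chevF4 certF4 r 0 + 2 * aN Lie.chevF4 certF4 r 3,
    -aN Lie.chevF4 certF4 r 0 + 2 * aN Lie.chevF4 certF4 r 2 - 2 * aN Lie.chevF4 certF4 r 3,
    -aN Lie.chevF4 certF4 r 0 + 2 * aN Lie.chevF4 certF4 r 1 - 2 * aN Lie.chevF4 certF4 r 2] i
  decide +kernel

theorem comb_iff {j r k : Fin 48} {m n : ℤ} : (∀ i, ec j i = m * ec r i + n * ec k i) ↔ RF4.α j = m • RF4.α r + n • RF4.α k := by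
  constructor
  · intro h
    have h0 := h 0; have h1 := h 1; have h2 := h 2; have h3 := h 3
    simp only [ec_eq] at h0 h1 h2 h3
    simp at h0 h1 h2 h3
    funext i
    fin_cases i <;> simp <;> nlinarith
  · intro h i
    simp only [ec_eq, h]
    fin_cases i <;> simp <;> ring
theorem ad_iff {j r k : Fin 48} : Ad j r k ↔ RF4.α j = RF4.α r + RF4.α k := by simpa using comb_iff (j := j) (r := r) (k := k) (m := 1) (n := 1)
theorem pair_eq : ∀ r k : Fin 48, RF4.pair r k = if sh r then ip r k / 2 else ip r k / 4 := by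
  intro r k
  refine (St.prN_eq checkedF4 r k).symm.trans ?_
  revert r k
  decide +kernel
theorem neg_eq : ∀ r : Fin 48, RF4.neg r = r.rev := by
  intro r
  refine Fin.ext ?_
  change Lie.chevF4.neg r = _
  revert r
  decide +kernel
theorem ln_eq : ∀ r : Fin 48, RF4.ln r = if sh r then 1 else 2 := by
  change ∀ r : Fin 48, lnN certF4 r = _
  decide +kernel
theorem ht_eq (r : Fin 48) : 2 * RF4.ht r = 8 * ec r 0 + 3 * ec r 1 + 2 * ec r 2 + ec r 3 := by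
  simp [ec_eq, RootSys.ht, RootSys.htL, Fin.sum_univ_four]; ring
theorem pos_iff {r : Fin 48} : RF4.IsPos r ↔ 24 ≤ r := by
  rw [RootSys.isPos_iff_ht, show 0 < RF4.ht r ↔ 0 < 8 * ec r 0 + 3 * ec r 1 + 2 * ec r 2 + ec r 3 by rw [← ht_eq]; omega]
  revert r
  decide +kernel
theorem du_eq : ∀ r : Fin 48, symF4.ρ r = du r := by
  intro r
  refine Fin.ext ?_
  change t8 ρF4 r = _
  revert r
  decide +kernel
theorem refl_iff {r k j : Fin 48} : RF4.refl r k = j ↔ ∀ i, ec j i = ec k i - (if sh r then ip r k / 2 else ip r k / 4) * ec r i := by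
  rw [← pair_eq, ← RF4.α_inj.eq_iff, RootSys.α_refl, eq_comm]
  simpa [sub_eq_add_neg] using (comb_iff (j := j) (r := k) (k := r) (m := 1) (n := -RF4.pair r k)).symm

end Cfsg.Lib.F4S
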