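import Cfsg.Agent.Lib.F4S.P
import Cfsg.Agent.Lib.ES.S1b

/-!
# S3328: basic facts on a faithful system `C` of type `F₄` in characteristic two (`FC C`); monomial elements; the duality.
All side conditions on sets of roots (`Cl`, `Ps`, `Sb`) are meant to be closed by `decide +kernel` (after `unfold`/`simp only [Set.mem_setOf_eq]` if needed).
-/

set_option autoImplicit false
set_option linter.unusedSectionVars false

namespace Cfsg.Lib.F4S

open Subgroup Cfsg.Lib.Chev Cfsg.Lib.BG Cfsg.Lib.GW Cfsg.Lib.Twisted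
open ES (QA K0)
open scoped Cfsg.Lib.Transfer commutatorElement

/-- A linear functional on the roots. -/
def dv (v : Fin 4 → ℤ) (k : Fin 48) : ℤ := v 0 * ec k 0 + v 1 * ec k 1 + v 2 * ec k 2 + v 3 * ec k 3
/-- `v` is positive on `S`; for positive roots take `v = ![8, 3, 2, 1]` (twice the height). -/
abbrev Ps (v : Fin 4 → ℤ) (S : Set (Fin 48)) : Prop := ∀ k ∈ S, 0 < dv v k
/-- `j` occurs in the commutator of `X_a` and `X_b`. -/
abbrev Oc (j a b : Fin 48) : Prop := ip a b < 0 ∧ (Ad j a b ∨ Ad2 j a b ∨ Ad2 j b a)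
/-- `X_d` normalizes `XS S`. -/
abbrev Sb (S : Set (Fin 48)) (d : Fin 48) : Prop := ∀ k ∈ S, k ≠ d.rev ∧ ∀ j, Oc j k d → j ∈ S
/-- The table of the reflections. -/
def rfT : ℕ := 0x1755240fa4b2489478e284511e0dc6c2641b96b544ec46ba8e34ca0a9e690681f75a62f60159346a3cc2a62241e28467c47436da0af02d554b12ad0a4e3682e72658e015e719b97699094ad140d9ca2648c786018575c0efb985c102c4d2aa93cea0c2e694889f7846ed59518510308100e34c2ca2481e07de75c6da6585d65544d24503e89e69648e286fbadb2baa97deb5b1165683a694c2e2220bee75cb061585eaa434d20403e73648ca2611da66b50245082e79c6455e89ce94d8cb26f7ed76c6daac6a445540d209002690c88a8481d8a964d104fbe07dd6981a89e63a434c2aeb5eb1c6eb66a1561144c34420658e22e12481e95d54903c04503e1aeaa475134a48e2b0204028921a6585d65679a5beeb4334c2dd71ba061443a07de595b623eaa5b2269534ac8447de30ba010185efb87923450ace0dd70a26750616034269966e5e3ad0a5c9c9954b1286015e3682dabc2b405641e246a3ce7436ca9884c67c4318056bda624aea45d9e62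ac5138607c6a0d32e66d096063887a503ce71b0e524849e1442d75407aeb655d5a6871bb0b8e24a07ef3a7985644ad6a892210103dd34c9035131c6698282051bdfb6662a5a876c6e43224e0b9e9ce95a1ab12954a8484413dc3632d40d21d9157242400bee827ada668b1d7248cd52d7de9a53aaa585c616128945009b88c2d34831d654420f040beeb6881f7ac9e695d71b3abaa992389a6585d654d30b18512151348a2480d140f1c2040aa9b6caefba28669648e89cf5954d26d14185df79475c6998081cc2ca24e3410040c2185aeea6cbeab639e1964a2299941751c49a81178f55d4db61f5893472ca3883021400c6044bebaacbada649e68688e295a6117544e065f4163dc6d279754a34c1ce2482c60810c5100a6eb6caeabe58e2a219e691755e49c6d064f8167d44dd45a60b24838734c2801440c2046beab6caeea669288a78658d87d67536da4603de5547126505cc28e20d1cb2460440c2140beeaecb6aa67a248e69618a069975c51f7985d141b4d25953cd38a24c2c72061420c4040b6ebeca6aae89669e28e485e7e06dc7555d66586924d43d044e2cc34824a1c41460c0042bedbacaaba689a79648a385f81e75b71859a5595d351244f40e30d2ca2091c61050c1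080bafb6cae9aa89e59a392286079f71d6d96976155944934113ce34b3092881c51840c2001bafb6cae9aa89e59a392286079f71d6d96976155944934113ce34b3092881c51840c2001bedbacaaba689a79648a385f81e75b71859a5595d351244f40e30d2ca2091c61050c1080b6ebeca6aae89669e28e485e7e06dc7555d66586924d43d044e2cc34824a1c41460c0042beeaecb6aa67a248e69618a069975c51f7985d141b4d25953cd38a24c2c72061420c4040beab6caeea669288a78658d87d67536da4603de5547126505cc28e20d1cb2460440c2140a6eb6caeabe58e2a219e691755e49c6d064f8167d44dd45a60b24838734c2801440c2046bebaacbada649e68688e295a6117544e065f4163dc6d279754a34c1ce2482c60810c5100aeea6cbeab639e1964a2299941751c49a81178f55d4db61f5893472ca3883021400c6044aa9b6caefba28669648e89cf5954d26d14185df79475c6998081cc2ca24e3410040c2185beeb6881f7ac9e695d71b3abaa992389a6585d654d30b18512151348a2480d140f1c2040bee827ada668b1d7248cd52d7de9a53aaa585c616128945009b88c2d34831d654420f040bdfb6662a5a876c6e43224e0b9e9ce95a1ab12954a8484413d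c3632d40d21d91572424007aeb655d5a6871bb0b8e24a07ef3a7985644ad6a892210103dd34c9035131c6698282051bda624aea45d9e62ac5138607c6a0d32e66d096063887a503ce71b0e524849e1442d754066e5e3ad0a5c9c9954b1286015e3682dabc2b405641e246a3ce7436ca9884c67c4318056595b623eaa5b2269534ac8447de30ba010185efb87923450ace0dd70a2675061603426994503e1aeaa475134a48e2b0204028921a6585d65679a5beeb4334c2dd71ba061443a07debe07dd6981a89e63a434c2aeb5eb1c6eb66a1561144c34420658e22e12481e95d54903c082e79c6455e89ce94d8cb26f7ed76c6daac6a445540d209002690c88a8481d8a964d104f7deb5b1165683a694c2e2220bee75cb061585eaa434d20403e73648ca2611da66b50245018510308100e34c2ca2481e07de75c6da6585d65544d24503e89e69648e286fbadb2baa9699094ad140d9ca2648c786018575c0efb985c102c4d2aa93cea0c2e694889f7846ed59560159346a3cc2a62241e28467c47436da0af02d554b12ad0a4e3682e72658e015e719b9701755240fa4b2489478e284511e0dc6c2641b96b544ec46ba8e34ca0a9e690681f75a62f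
/-- The reflection in `r`. -/
def rf (r k : Fin 48) : Fin 48 := ⟨rfT >>> (6 * (48 * r.val + k.val)) % 64 % 48, Nat.mod_lt _ (by decide)⟩
theorem rf_eq : ∀ r k : Fin 48, RF4.refl r k = rf r k := by
  simp only [refl_iff]
  decide +kernel
theorem du_du : ∀ r, du (du r) = r := by decide +kernel
theorem sh_du : ∀ r, sh (du r) ↔ ¬ sh r := by decide +kernel
theorem du_rev : ∀ r : Fin 48, du r.rev = (du r).rev := by decide +kernel
theorem ip_du : ∀ a b, 2 * ip (du a) (du b) = (if sh a then if sh b then 4 else 2 else if sh b then 2 else 1) * ip a b := by decide +kernel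
theorem lv_du : ∀ r, lv (du r) = lv r := by decide +kernel
theorem ip_symm (a b : Fin 48) : ip a b = ip b a := by simp only [ip]; ring
theorem ip_rev : ∀ a b : Fin 48, ip a b.rev = - ip a b := by decide +kernel
theorem dv_ec (a k : Fin 48) : dv (ec a) k = ip a k := rfl

theorem exists_f (v : Fin 4 → ℤ) : ∃ f : (Fin 4 → ℤ) →+ ℤ, ∀ k, f (RF4.α k) = dv v k :=   ⟨.mk' (fun n => v 0 * n 0 + v 1 * (-n 0 + 2 * n 3) + v 2 * (-n 0 + 2 * n 2 - 2 * n 3) + v 3 * (-n 0 + 2 * n 1 - 2 * n 2)) fun a b => by simp; ring,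
    fun k => by simp [dv, ec_eq]⟩
theorem ip_self : ∀ r : Fin 48, ip r r = 4 ∨ ip r r = 8 := by decide +kernel
theorem ip_low : ∀ r s : Fin 48, s ≠ r.rev → -4 ≤ ip r s ∧ (ip r r = 4 → ip s s = 4 → -2 ≤ ip r s) ∧ (ip r s < 0 → ∃ j, Ad j r s) := by decide +kernel
theorem ip_pair : ∀ r k : Fin 48, ip r k = (if sh r then 2 else 4) * RF4.pair r k := by simp only [pair_eq]; decide +kernel
theorem ip_cmb {j r k : Fin 48} {m n : ℤ} (e : ∀ i, ec j i = m * ec r i + n * ec k i) (a : Fin 48) : ip a j = m * ip a r + n * ip a k := by simp only [ip, e]; ring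
theorem Ad.ip {j r k : Fin 48} (e : Ad j r k) (a : Fin 48) : ip a j = ip a r + ip a k := by simp only [F4S.ip, e]; ring
theorem Ad2.ip {j r k : Fin 48} (e : Ad2 j r k) (a : Fin 48) : ip a j = ip a r + 2 * ip a k := by simp only [F4S.ip, e]; ring
theorem Ad.dv {j r k : Fin 48} (e : Ad j r k) (v : Fin 4 → ℤ) : dv v j = dv v r + dv v k := by simp only [F4S.dv, e]; ring
theorem Ad2.dv {j r k : Fin 48} (e : Ad2 j r k) (v : Fin 4 → ℤ) : dv v j = dv v r + 2 * dv v k := by simp only [F4S.dv, e]; ring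
theorem Ad.symm {j r k : Fin 48} (e : Ad j r k) : Ad j k r := fun i => (e i).trans (add_comm _ _)
theorem ec_inj {j k : Fin 48} (h : ∀ i, ec j i = ec k i) : j = k := RF4.α_inj (by simpa using (comb_iff (j := j) (r := k) (k := k) (m := 1) (n := 0)).1 (by simpa using h))
theorem dv_rev (v : Fin 4 → ℤ) (k : Fin 48) : dv v k.rev = - dv v k := by simp only [dv, ec_rev]; ring
theorem ne_rev {v : Fin 4 → ℤ} {r k : Fin 48} (h : 0 ≤ dv v r) (h' : 0 < dv v k) : k ≠ r.rev := by rintro rfl; rw [dv_rev] at h'; omega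
theorem dv_le {v : Fin 4 → ℤ} {j r k : Fin 48} (e : Ad j r k ∨ Ad2 j r k ∨ Ad2 j k r) (h : 0 ≤ dv v r) (h' : 0 ≤ dv v k) : dv v r + dv v k ≤ dv v j := by
  rcases e with e | e | e <;> rw [e.dv v] <;> omega
theorem btw0 {i j x y p z : ℤ} (hi : 0 < i) (hj : 0 < j) (hx : x = 4 ∨ x = 8) (hy : y = 4 ∨ y = 8) (hz : z ≤ 8) (h : -4 ≤ p) (h' : x = 4 → y = 4 → -2 ≤ p)
    (e : z = i * (i * x + j * p) + j * (i * p + j * y)) : i ≤ 2 ∧ j ≤ 2 := by
  have a (n : ℤ) (h : ¬ n ≤ 2) : 9 ≤ n * n := by nlinarith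
  have b := mul_nonneg (mul_pos hi hj).le (sub_nonneg.2 h)
  have := mul_self_nonneg (i - j); have := mul_self_nonneg (i - 2 * j); have := mul_self_nonneg (2 * i - j)
  rcases hx with rfl | rfl <;> rcases hy with rfl | rfl <;> (try have b := mul_nonneg (mul_pos hi hj).le (sub_nonneg.2 (h' rfl rfl))) <;>
    exact ⟨by_contra fun n => by have := a _ n; linarith, by_contra fun n => by have := a _ n; linarith⟩
theorem btw {r s k : Fin 48} (h : RF4.Between r s k) (n : s ≠ r.rev) : Ad k r s ∨ Ad2 k r s ∨ Ad2 k s r := by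
  obtain ⟨i, j, hi, hj, e⟩ := h
  have e := comb_iff.2 (show _ = (i : ℤ) • _ + (j : ℤ) • _ by simpa using e)
  have a := ip_cmb e k
  rw [ip_symm k r, ip_symm k s, ip_cmb e r, ip_cmb e s, ip_symm s r] at a
  obtain ⟨p, q, -⟩ := ip_low r s n
  have := ip_self k
  have b : (i : ℤ) ≤ 2 ∧ (j : ℤ) ≤ 2 := btw0 (by omega) (by omega) (ip_self r) (ip_self s) (by omega) p q a
  obtain ⟨rfl, rfl⟩ | ⟨rfl, rfl⟩ | ⟨rfl, rfl⟩ | ⟨rfl, rfl⟩ : i = 1 ∧ j = 1 ∨ i = 1 ∧ j = 2 ∨ i = 2 ∧ j = 1 ∨ i = 2 ∧ j = 2 := by omega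
  exacts [.inl (by simpa using e), .inr (.inl (by simpa using e)), .inr (.inr fun l => by rw [e]; push_cast; ring), by
    have := ip_self r; have := ip_self s; omega]
/-- `k = i r + j s` (`comb_iff`): `s = ± r`, or `(i, j)` is `(1,1)`, `(1,2)`, `(2,1)`. -/
theorem Cl.closed {S : Set (Fin 48)} (h : Cl S) : RF4.IsClosed S := fun r hr s hs k hk => by
  by_cases n : s = r.rev
  · obtain ⟨i, j, -, -, e⟩ := hk
    have e := comb_iff.2 (show _ = (i : ℤ) • _ + (j : ℤ) • _ by simpa using e)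
    by_contra z
    have := tb_cs r k (by rintro rfl; exact z hr) (by rintro rfl; exact z (n ▸ hs))
    rw [ip_cmb e k, ip_symm k r, ip_symm k s, ip_cmb e r, ip_cmb e s, n, ip_rev, ip_rev, ip_symm r.rev, ip_rev] at this
    exact this.ne (by ring)
  rcases btw hk n with e | e | e
  exacts [h r hr s hs k (.inl e), h r hr s hs k (.inr e), h s hs r hr k (.inr e)]

variable {F G G' : Type*} [Field F] [Finite F] [CharP F 2] [Group G] [Finite G] [Group G'] [Finite G'] {C C' C'' : ChevSys RF4 F G} {g g' l n t u : G}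
  {w w' : Equiv.Perm (Fin 48)} {c c' : Fin 48 → Fˣ} {a b d i j k r a' b' : Fin 48} {e e' : F} {S T A B : Set (Fin 48)} {v : Fin 4 → ℤ}

/-- Monomial elements of `L`. -/
structure Mo (C : ChevSys RF4 F G) (g : G) (w : Equiv.Perm (Fin 48)) (c : Fin 48 → Fˣ) : Prop where
  mem : g ∈ C.grp
  mW : w ∈ RF4.W
  ip : ∀ a b, ip (w a) (w b) = ip a b
  ad : ∀ j r k, Ad j r k → Ad (w j) (w r) (w k)
  ad2 : ∀ j r k, Ad2 j r k → Ad2 (w j) (w r) (w k)
  rev : ∀ k : Fin 48, w k.rev = (w k).rev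
  mul : ∀ j r k, Ad j r k → c j = c r * c k
  inv : ∀ k : Fin 48, c k.rev * c k = 1
  conj : ∀ k e, g * C.x k e * g⁻¹ = C.x (w k) (c k * e)

/-- The level filtration of `U` (`n ≥ 1`). -/
noncomputable abbrev Fl (C : ChevSys RF4 F G) (n : ℕ) : Subgroup G := C.XS {k | n ≤ lv k}
/-- `C_L(X_a)`. -/
noncomputable abbrev C0 (C : ChevSys RF4 F G) (a : Fin 48) : Subgroup G := C.XS {k | 0 ≤ ip a k}
/-- `O₂(C_L(X_a))`. -/
noncomputable abbrev Q0 (C : ChevSys RF4 F G) (a : Fin 48) : Subgroup G := C.XS {k | 0 < ip a k}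
/-- The Frobenius twist. -/
def Fr2 (C C'' : ChevSys RF4 F G) : Prop := ∀ r c, C''.x r c = C.x r (c ^ 2)

omit [Finite F] [CharP F 2] [Finite G] in
theorem gen_eq (C : ChevSys RF4 F G) (S : Set (Fin 48)) : gen (RingEquiv.refl F) C.x S = C.XS S :=   le_antisymm (gn_le.2 fun _ h a _ => C.x_mem h a) (PreSys.XS_le.2 fun _ h _ => gn_mem h (.inr rfl))
omit [Finite F] [CharP F 2] [Finite G] in
theorem U_eq (C : ChevSys RF4 F G) : C.U = C.XS {k | 24 ≤ k} := congrArg C.XS (Set.ext fun _ => pos_iff)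
omit [Finite F] [CharP F 2] [Finite G] in
theorem Fl_one (C : ChevSys RF4 F G) : Fl C 1 = C.U := (congrArg C.XS (Set.ext (show ∀ k : Fin 48, 1 ≤ lv k ↔ 24 ≤ k by decide +kernel))).trans (U_eq C).symm
omit [Finite F] [CharP F 2] [Finite G] in
theorem XS_grp (C : ChevSys RF4 F G) (S : Set (Fin 48)) : C.XS S ≤ C.grp := C.XS_le_grp S

namespace Mo
omit [Finite F] [CharP F 2] [Finite G]
/-- `Acts.aut` gives `ip` (`pair_eq`, `ln_eq`), `ad` (`ad_iff`, `comb_iff`), `rev` (`neg_eq`). -/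
theorem of_acts (hg : g ∈ C.grp) (hw : w ∈ RF4.W) (h : C.Acts g w c) (m : ∀ j r k, Ad j r k → c j = c r * c k) : Mo C g w c :=   ⟨hg, hw, fun a b => by simp only [ip_pair, sh_aut h.aut, h.aut.pair], fun _ _ _ => ad_aut h.aut,
    fun j r k e => by simpa using comb_iff.2 ((h.aut.comb (k := j) (r := r) (s := k) (i := 1) (j := 2)).2 (comb_iff.1 (by simpa using e))),
    fun k => by rw [← neg_eq, ← neg_eq, h.aut.neg], m, fun k => by rw [← neg_eq, mul_comm, h.neg], h.conj⟩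
theorem one : Mo C 1 1 1 := of_acts (one_mem _) (one_mem _) C.acts_one fun _ _ _ _ => (mul_one 1).symm
theorem mul' (p : Mo C g w c) (q : Mo C g' w' c') : Mo C (g * g') (w * w') fun k => c (w' k) * c' k :=   ⟨mul_mem p.mem q.mem, mul_mem p.mW q.mW, fun a b => (p.ip _ _).trans (q.ip a b), fun _ _ _ e => p.ad _ _ _ (q.ad _ _ _ e), fun _ _ _ e => p.ad2 _ _ _ (q.ad2 _ _ _ e),
    fun k => by rw [Equiv.Perm.mul_apply, q.rev, p.rev]; rfl, fun _ _ _ e => by rw [p.mul _ _ _ (q.ad _ _ _ e), q.mul _ _ _ e, mul_mul_mul_comm],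
    fun k => by rw [q.rev, mul_mul_mul_comm, p.inv, q.inv, mul_one], fun k e => by
      rw [Units.val_mul, mul_assoc (c _ : F), Equiv.Perm.mul_apply, ← p.conj, ← q.conj]; group⟩
theorem pow (p : Mo C g w c) (n : ℕ) : ∃ d, Mo C (g ^ n) (w ^ n) d := by
  induction n with
  | zero => exact ⟨1, by simpa using one⟩
  | succ n ih => exact ⟨_, by simpa only [pow_succ] using ih.choose_spec.mul' p⟩
theorem inv' (p : Mo C g w c) : Mo C g⁻¹ w⁻¹ fun k => (c (w⁻¹ k))⁻¹ := by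
  obtain ⟨d, q⟩ := p.pow (orderOf w - 1)
  rw [show w ^ (orderOf w - 1) = w⁻¹ from eq_inv_of_mul_eq_one_left (by rw [← pow_succ, Nat.sub_add_cancel (orderOf_pos w), pow_orderOf_eq_one])] at q
  exact ⟨inv_mem p.mem, q.mW, q.ip, q.ad, q.ad2, q.rev, fun _ _ _ e => by rw [p.mul _ _ _ (q.ad _ _ _ e), mul_inv], fun k => by rw [q.rev, ← mul_inv, p.inv, inv_one], fun k e => by
    have := p.conj (w⁻¹ k) (((c (w⁻¹ k))⁻¹ : Fˣ) * e)
    rw [apply_inv, Units.mul_inv_cancel_left] at this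
    rw [← this]; group⟩
theorem cg (p : Mo C g w c) (h : ∀ k, c k = c' k) : Mo C g w c' := funext h ▸ p
theorem mul1 (p : Mo C g w 1) (q : Mo C g' w' 1) : Mo C (g * g') (w * w') 1 := (p.mul' q).cg fun _ => mul_one 1
theorem inv1 (p : Mo C g w 1) : Mo C g⁻¹ w⁻¹ 1 := p.inv'.cg fun _ => inv_one
theorem sh_iff (p : Mo C g w c) (k : Fin 48) : sh (w k) ↔ sh k := by rw [sh, p.ip]
theorem cm0 (p : Mo C g w c) (a k : Fin 48) : Cm0 (w a) (w k) ↔ Cm0 a k := by simp only [Cm0, sh, p.ip]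
theorem conj_mem (p : Mo C g w c) (h : ∀ k ∈ S, w k ∈ T) (hu : u ∈ C.XS S) : g * u * g⁻¹ ∈ C.XS T := PreSys.conj_mem_of_XS (fun k hk e => p.conj k e ▸ C.x_mem (h k hk) _) hu
theorem conj_n (p : Mo C g w c) (r : Fin 48) (e : Fˣ) : g * C.n r e * g⁻¹ = C.n (w r) (c r * e) := by
  have h1 : -(((c r * e)⁻¹ : Fˣ) : F) = c r.rev * -((e⁻¹ : Fˣ) : F) := by rw [eq_inv_of_mul_eq_one_left (p.inv r), mul_inv, Units.val_mul, mul_neg]
  rw [PreSys.n, PreSys.n, h1, Units.val_mul, neg_eq, neg_eq, ← p.rev, ← p.conj, ← p.conj]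
  group
theorem h (r : Fin 48) (e : Fˣ) : Mo C (C.h r e) 1 fun k => e ^ RF4.pair r k :=   of_acts (C.H_le_grp (C.h_mem_H r e)) (one_mem _) (C.acts_h r e) fun _ _ _ z => by rw [RootSys.pair_of_add (ad_iff.1 z), zpow_add]
/-- `exists_acts_of_mem_H`. -/
theorem of_H (h : g ∈ C.H) : ∃ c, Mo C g 1 c :=   let ⟨_, p⟩ := C.exists_acts_of_mem_H h
  ⟨_, of_acts (C.H_le_grp h) (one_mem _) p fun _ _ _ z => by simp only [RootSys.chr, RootSys.pair_of_add (ad_iff.1 z), zpow_add, Finset.prod_mul_distrib]⟩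
end Mo
omit [Finite F] [Finite G] in
theorem eta_one (C : ChevSys RF4 F G) (r k : Fin 48) : C.eta r k = 1 := Units.ext (by
  have h1 : (C.eta r k : F) * C.eta r k = 1 := by rw [← Units.val_mul, C.eta_sq, Units.val_one]
  rwa [mul_self_eq_one_iff, CharTwo.neg_eq, or_self] at h1)
omit [Finite F] [Finite G] in
theorem x_iv (C : ChevSys RF4 F G) (r : Fin 48) (e : F) : (C.x r e)⁻¹ = C.x r e := inv_eq_of_mul_eq_one_left (C.x_mul_self r e)
omit [Finite F] [Finite G] in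
/-- `acts_n`, `eta = 1`. -/
theorem Mo.nn (r : Fin 48) (e : Fˣ) : Mo C (C.n r e) (RF4.refl r) fun k => e ^ (- RF4.pair r k) :=   .of_acts (C.N_le_grp (C.n_mem_N r e)) (RF4.refl_mem_W r) ((C.acts_n r e).congr rfl fun k => by rw [eta_one, mul_one]) fun _ _ _ z => by
    rw [RootSys.pair_of_add (ad_iff.1 z), neg_add, zpow_add]
omit [Finite F] [Finite G] in
theorem Mo.n1 (r : Fin 48) : Mo C (C.n r 1) (RF4.refl r) 1 := (Mo.nn r 1).cg fun _ => one_zpow _
omit [Finite F] [Finite G] in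
theorem n_x (C : ChevSys RF4 F G) (r k : Fin 48) (e : F) : C.n r 1 * C.x k e * (C.n r 1)⁻¹ = C.x (rf r k) e := by simpa only [rf_eq, Pi.one_apply, Units.val_one, one_mul] using (Mo.n1 r).conj k e
omit [Finite F] [Finite G] in
theorem n_sq (C : ChevSys RF4 F G) (r : Fin 48) (e : Fˣ) : C.n r e * C.n r e = 1 := by
  rw [mul_eq_one_iff_eq_inv, ← C.n_neg, show -e = e from Units.ext (CharTwo.neg_eq _)]
omit [Finite F] [Finite G] in
/-- Products of `n_i(1)` (compare `EG.exists_nJ`). -/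
theorem Mo.of_WJ {J : Set (Fin 4)} {K : Subgroup G} (hK : ∀ i ∈ J, C.n (RF4.simple i) 1 ∈ K) (h : w ∈ RF4.WJ J) : ∃ n ∈ K, C.NW n w ∧ Mo C n w 1 := by
  induction h using closure_induction with
  | mem w hw => obtain ⟨i, hi, rfl⟩ := hw; exact ⟨_, hK i hi, ChevSys.nw_simple i, RF4.refl_simple i ▸ .n1 _⟩
  | one => exact ⟨1, one_mem _, ChevSys.nw_one, .one⟩
  | mul w w' _ _ h h' => obtain ⟨m, a, b, c⟩ := h; obtain ⟨m', a', b', c'⟩ := h'; exact ⟨_, mul_mem a a', b.mul b', c.mul1 c'⟩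
  | inv w _ h => obtain ⟨m, a, b, c⟩ := h; exact ⟨_, inv_mem a, b.inv, c.inv1⟩
omit [Finite F] [Finite G] in
/-- `exists_W_pos`. -/
theorem exists_dom (C : ChevSys RF4 F G) (v : Fin 4 → ℤ) : ∃ n w, Mo C n w 1 ∧ ∀ k, 24 ≤ k → 0 ≤ dv v (w k) := by
  obtain ⟨f, hf⟩ := exists_f v
  obtain ⟨w, hw, e⟩ := RootSys.exists_W_pos (R := RF4) f
  obtain ⟨n, -, -, p⟩ := Mo.of_WJ (C := C) (K := ⊤) (fun _ _ => trivial) (RootSys.WJ_univ (R := RF4) ▸ inv_mem hw)
  refine ⟨n, _, p, fun k hk => not_lt.1 fun z => ?_⟩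
  have := pos_iff.1 (e (w⁻¹ k.rev) (by rw [hf, p.rev, dv_rev]; omega))
  rw [apply_inv] at this
  clear * - this hk; revert k; decide
omit [Finite F] [Finite G] in
/-- `W` is transitive on pairs of roots with given lengths and angle.  Both pairs can be moved to the one that is dominant for `v = 100 a + b` (`exists_dom`); it is determined by the lengths and the angle (`decide`). -/
theorem tr (C : ChevSys RF4 F G) (h1 : ip a a = ip a' a') (h2 : ip b b = ip b' b') (h : ip a b = ip a' b') : ∃ n w, Mo C n w 1 ∧ w a = a' ∧ w b = b' := by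
  have key (a b : Fin 48) : ∃ n w, Mo C n w 1 ∧ (w a, w b) ∈ [((44 : Fin 48), (3 : Fin 48)), (44, 6), (44, 14), (44, 29), (44, 32), (44, 40), (44, 44), (44, 47), (47, 0), (47, 18),
      (47, 23), (47, 37), (47, 41), (47, 44), (47, 46), (47, 47)] := by
    obtain ⟨n, w, p, e⟩ := exists_dom C fun i => 100 * ec a i + ec b i
    refine ⟨_, _, p.inv1, ?_⟩
    have (k : Fin 48) (hk : k ∈ [24, 25, 27, 33]) : 0 ≤ 100 * ip (w⁻¹ a) k + ip (w⁻¹ b) k := by
      rw [← p.ip, ← p.ip _ k, apply_inv, apply_inv]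
      exact (e k (by revert k; decide)).trans_eq (by simp only [dv, ip]; ring)
    generalize w⁻¹ a = a, w⁻¹ b = b at this
    revert a b; decide +kernel
  obtain ⟨n, w, p, e⟩ := key a b
  obtain ⟨n', w', p', e'⟩ := key a' b'
  rw [← p.ip, ← p'.ip a'] at h1 h
  rw [← p.ip, ← p'.ip b'] at h2
  have : (w a, w b) = (w' a', w' b') := (show ∀ x ∈ _, ∀ y ∈ _, ip x.1 x.1 = ip y.1 y.1 → ip x.2 x.2 = ip y.2 y.2 → ip x.1 x.2 = ip y.1 y.2 → x = y by decide +kernel) _ e _ e' h1 h2 h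
  exact ⟨_, _, p'.inv1.mul1 p, by simp [(Prod.mk.inj this).1], by simp [(Prod.mk.inj this).2]⟩
omit [Finite F] [Finite G] in
/-- Some `h_r(λ)` with `pair r a = 1`. -/
theorem exists_h (C : ChevSys RF4 F G) (a : Fin 48) (e : Fˣ) : ∃ g ∈ C.H, ∃ c, Mo C g 1 c ∧ c a = e := by
  obtain ⟨r, p⟩ : ∃ r, RF4.pair r a = 1 := by simp only [pair_eq]; revert a; decide +kernel
  exact ⟨_, C.h_mem_H r e, _, .h r e, by rw [p, zpow_one]⟩
omit [Finite G] in
/-- There is `r ⊥ b` with `pair r a ∈ {1, 2}` (`decide`); `h_r(λ) h_s(μ)` and square roots in `F`. -/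
theorem exists_h2 (C : ChevSys RF4 F G) (h : b ≠ a) (h' : b ≠ a.rev) (e e' : Fˣ) : ∃ g ∈ C.H, ∃ c, Mo C g 1 c ∧ c a = e ∧ c b = e' := by
  have key {a b : Fin 48} (h : b ≠ a) (h' : b ≠ a.rev) (e : Fˣ) : ∃ r, ∃ l : Fˣ, l ^ RF4.pair r a = e ∧ RF4.pair r b = 0 := by
    obtain ⟨r, p | p, q⟩ : ∃ r, (RF4.pair r a = 1 ∨ RF4.pair r a = 2) ∧ RF4.pair r b = 0 := by simp only [pair_eq]; revert a b; decide +kernel
    · exact ⟨r, e, by rw [p, zpow_one], q⟩
    · obtain ⟨l, hl⟩ := isSquare_of_charTwo' (e : F)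
      exact ⟨r, Units.mk0 l (by rintro rfl; simp at hl), by rw [p]; exact Units.ext (by simp [hl, zpow_ofNat, sq]), q⟩
  obtain ⟨r, l, p, q⟩ := key h h' e
  obtain ⟨s, m, p', q'⟩ := key h.symm (fun z => h' (by rw [z, Fin.rev_rev])) e'
  exact ⟨_, mul_mem (C.h_mem_H r l) (C.h_mem_H s m), _, by simpa only [mul_one] using (Mo.h r l).mul' (.h s m), by simp [p, q'], by simp [p', q]⟩

namespace FC
variable (f : FC C)
include f
omit [Finite F] [Finite G] in
theorem com (h : 0 ≤ ip r k) (a b : F) : Commute (C.x r a) (C.x k b) := by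
  obtain e | ⟨p, q, j, x, y⟩ : Cm0 r k ∨ sh r ∧ sh k ∧ ∃ j, ¬ sh j ∧ Ad j r k := by revert r k; decide +kernel
  · exact f.rel.com r k a b e (.inr rfl) (.inr rfl)
  · exact commutatorElement_eq_one_iff_commute.1 ((f.rel.so r k j a b p q x y).trans (by simp [CharTwo.add_self_eq_zero]))
omit [Finite F] [Finite G] in
theorem cm1 (h : ip r r = ip k k) (h' : ip r k < 0) (e : Ad j r k) (a b : F) : ⁅C.x r a, C.x k b⁆ = C.x j (a * b) := by
  by_cases p : sh r
  · have := e.ip j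
    rw [ip_symm j r, ip_symm j k, e.ip r, e.ip k, ip_symm k r] at this
    exact f.rel.ss r k j a b p (h.symm.trans p) (by have := ip_self j; omega) e
  · exact f.rel.ll r k j a b p (fun z => p (h.trans z)) e rfl rfl
omit [Finite F] [Finite G] in
theorem cj1 (h : ip r r = ip k k) (h' : ip r k < 0) (e : Ad j r k) (a b : F) : C.x r a * C.x k b * (C.x r a)⁻¹ = C.x j (a * b) * C.x k b := by
  rw [← f.cm1 h h' e, commutatorElement_def, inv_mul_cancel_right]
omit f in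
theorem ls_ip (e : Ad j r k) (e' : Ad2 i r k) : ip r r = 8 ∧ ip k k = 4 ∧ ip r k = -4 := by
  have a1 := e.ip j
  have a2 := e'.ip i
  rw [ip_symm j r, ip_symm j k, e.ip r, e.ip k, ip_symm k r] at a1
  rw [ip_symm i r, ip_symm i k, e'.ip r, e'.ip k, ip_symm k r] at a2
  have := ip_self r; have := ip_self k; have := ip_self j; have := ip_self i
  omega
omit [Finite F] [Finite G] in
theorem cm2 (e : Ad j r k) (e' : Ad2 i r k) (a b : F) : ⁅C.x r a, C.x k b⁆ = C.x j (a * b) * C.x i (a * b ^ 2) :=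
  have p := ls_ip e e'
  (f.rel.ls r k j i a b (by omega) p.2.1 e e' rfl).trans (by rw [sq]; rfl)
omit [Finite F] [Finite G] in
theorem cm3 (e : Ad j r k) (e' : Ad2 i r k) (a b : F) : ⁅C.x k b, C.x r a⁆ = C.x j (a * b) * C.x i (a * b ^ 2) := by
  have p := ls_ip e e'
  rw [← commutatorElement_inv, f.cm2 e e', mul_inv_rev, x_iv, x_iv, (f.com (by rw [e.ip, ip_symm i, ip_symm i, e'.ip, e'.ip, ip_symm k r]; omega) _ _).eq]
omit [Finite F] [Finite G] in
theorem cj2 (e : Ad j r k) (e' : Ad2 i r k) (a b : F) : C.x r a * C.x k b * (C.x r a)⁻¹ = C.x j (a * b) * C.x i (a * b ^ 2) * C.x k b := by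
  rw [← f.cm2 e e', commutatorElement_def, inv_mul_cancel_right]
omit [Finite F] [Finite G] in
theorem cj3 (e : Ad j r k) (e' : Ad2 i r k) (a b : F) : C.x k b * C.x r a * (C.x k b)⁻¹ = C.x j (a * b) * C.x i (a * b ^ 2) * C.x r a := by
  rw [← f.cm3 e e', commutatorElement_def, inv_mul_cancel_right]
omit [Finite F] [Finite G] in
theorem cm_mem (h : k ≠ r.rev) (hT : ∀ j, Oc j r k → j ∈ T) (a b : F) : ⁅C.x r a, C.x k b⁆ ∈ C.XS T := by
  rcases le_or_gt 0 (ip r k) with p | p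
  exacts [(f.com p a b).commutator_eq ▸ one_mem _, gen_eq C T ▸ f.rel.cm_mem (fun _ => rfl) h (fun j e => hT j ⟨p, e⟩) (.inr rfl) (.inr rfl)]
theorem norm (h : Sb S d) (e : F) : C.x d e ∈ 𝐍(C.XS S) := ES.nm_of fun _ => PreSys.conj_mem_of_XS fun k hk t => by
  have := mul_mem (inv_mem (f.cm_mem (fun z => (h k hk).1 (by rw [z, Fin.rev_rev])) (h k hk).2 t e)) (C.x_mem hk t)
  rwa [commutatorElement_inv, commutatorElement_def, inv_mul_cancel_right] at this
theorem norm_le (h : ∀ d ∈ A, Sb S d) : C.XS A ≤ 𝐍(C.XS S) := PreSys.XS_le.2 fun d hd => f.norm (h d hd)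
omit f [Finite F] [CharP F 2] [Finite G] in
theorem cm_ind {K : Subgroup G} (hA : C.XS A ≤ 𝐍(K)) (h : ∀ a ∈ A, ∀ e, ⁅C.x a e, g⁆ ∈ K) (hu : u ∈ C.XS A) : ⁅u, g⁆ ∈ K :=
  PreSys.XS_induction (p := fun u => ⁅u, g⁆ ∈ K) hu (by simp) fun y hy a ha e ih => by
    rw [show ⁅y * C.x a e, g⁆ = y * ⁅C.x a e, g⁆ * y⁻¹ * ⁅y, g⁆ by simp only [commutatorElement_def]; group]
    exact mul_mem (conj_mem_of_norm (hA hy) (h a ha e)) ih
/-- `commutator_XS_le`. -/
theorem cm_le (h : ∀ a ∈ A, ∀ b ∈ B, b ≠ a.rev ∧ ∀ j, Oc j a b → j ∈ T) (hA : ∀ d ∈ A, Sb T d) (hB : ∀ d ∈ B, Sb T d) : ⁅C.XS A, C.XS B⁆ ≤ C.XS T :=   commutator_le.2 fun _ hu _ hv => cm_ind (f.norm_le hA) (fun a ha e => by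
    rw [← commutatorElement_inv, inv_mem_iff]
    exact cm_ind (f.norm_le hB) (fun b hb e' => by rw [← commutatorElement_inv, inv_mem_iff]; exact f.cm_mem (h a ha b hb).1 (h a ha b hb).2 e e') hv) hu
omit [Finite F] [Finite G] in
theorem cent_le (h : ∀ a ∈ A, ∀ b ∈ B, 0 ≤ ip a b) : C.XS A ≤ 𝐂(C.XS B) := PreSys.XS_le.2 fun a ha e => mem_centralizer_iff.2 fun _ hx =>
  mem_cent1.1 (PreSys.XS_le.2 (fun b hb e' => mem_cent1.2 (f.com (h a ha b hb) e e').symm) hx)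
theorem fl_cm {m n : ℕ} (hm : 1 ≤ m) (hn : 1 ≤ n) : ⁅Fl C m, Fl C n⁆ ≤ Fl C (m + n) := by
  have key : ∀ a b, 1 ≤ lv a → 1 ≤ lv b → b ≠ a.rev ∧ (ip a b < 0 → ∀ j, Ad j a b ∨ Ad2 j a b ∨ Ad2 j b a → lv a + lv b ≤ lv j) := by decide +kernel
  have sb (d : Fin 48) (hd : 1 ≤ lv d) : Sb {k | m + n ≤ lv k} d := fun k (hk : m + n ≤ lv k) =>
    ⟨(key d k hd (by omega)).1, fun j e => show m + n ≤ lv j by have := (key k d (by omega) hd).2 e.1 j e.2; omega⟩
  exact f.cm_le (fun a (ha : m ≤ lv a) b (hb : n ≤ lv b) => ⟨(key a b (by omega) (by omega)).1, fun j e => show m + n ≤ lv j by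
    have := (key a b (by omega) (by omega)).2 e.1 j e.2; omega⟩) (fun d hd => sb d (hm.trans hd)) fun d hd => sb d (hn.trans hd)
omit [Finite F] [CharP F 2] [Finite G] in
theorem inf (hS : Cl S) (hT : Cl T) (h : Ps v S) (h' : Ps v T) : C.XS S ⊓ C.XS T = C.XS (S ∩ T) :=   let ⟨_, e⟩ := exists_f v; f.faith.XS_inf_XS hS.closed hT.closed (fun k p => e k ▸ h k p) fun k p => e k ▸ h' k p
omit [Finite F] [CharP F 2] [Finite G] in
theorem zero_of (hS : Cl S) (h : Ps v S) (h' : 0 < dv v r) (hr : r ∉ S) (m : C.x r e ∈ C.XS S) : e = 0 :=   let ⟨_, p⟩ := exists_f v; by_contra fun z => hr (f.faith.mem_of_x_mem hS.closed (fun k q => p k ▸ h k q) (p r ▸ h') z m)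
omit [CharP F 2] [Finite G] in
theorem card {S : Finset (Fin 48)} (hS : Cl S) (h : Ps v S) : Nat.card (C.XS S) = Nat.card F ^ S.card := let ⟨_, p⟩ := exists_f v; f.faith.card_XS hS.closed fun k q => p k ▸ h k q
omit f [Finite F] [CharP F 2] [Finite G] in
theorem split (hS : Cl S) (h : Ps v S) (p : Fin 48 → Prop) (hu : u ∈ C.XS S) : ∃ a ∈ C.XS {k | k ∈ S ∧ p k}, ∃ b ∈ C.XS {k | k ∈ S ∧ ¬ p k}, u = a * b :=   let ⟨_, e⟩ := exists_f v; C.exists_mul_of_mem_XS hS.closed (fun k q => e k ▸ h k q) p hu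
omit [Finite F] [Finite G] in
theorem mem2 (h : 0 ≤ ip a b) : u ∈ C.XS {a, b} ↔ ∃ e e', u = C.x a e * C.x b e' := by
  refine ⟨fun hu => PreSys.XS_induction (p := fun u => ∃ e e', u = C.x a e * C.x b e') hu ⟨0, 0, by simp⟩ ?_,
    fun ⟨e, e', z⟩ => z ▸ mul_mem (C.x_mem (by simp) e) (C.x_mem (by simp) e')⟩
  rintro _ - k (rfl | rfl) t ⟨e, e', rfl⟩
  exacts [⟨e + t, e', by rw [C.x_add, mul_assoc, mul_assoc, (f.com h t e').eq]⟩, ⟨e, e' + t, by rw [C.x_add, mul_assoc]⟩]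
omit [Finite F] [CharP F 2] [Finite G] in
theorem inj2 (h : a ≠ b) (p : C.x a e = C.x b e') : e = 0 := by_contra fun z => h (f.faith.eq_of_x_eq z p)
/-- Lemma B modulo `T` (port of `ES.lemB`).  `M = {k ∈ A | (k, d) < 0, k + d ∉ T}`, `u = n m` (`split`), `n` commutes with `x = x_d(e)` modulo `XS T`, so `m = ∏_M x_k(a_k)` does.
`f' k = dv v k + dv v (s_d k)` is linear, `f' d = 0`, `f' > 0` on `M`.  If some `a_k ≠ 0` take `ℓ = f' k` least; in `XS P`, `P = {dv v > 0, f' ≥ ℓ}`, modulo `{dv v > 0, f' > ℓ}` (abelian quotient)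
`⁅m, x⁆ ≡ ∏ x_{j+d}(e a_j) x_{j+2d}(·)`; `k + d` occurs once (`j + 2 d = k + d` gives `(k, d) = 0`).  `⁅m, x⁆ ∈ XS T ⊓ XS P`, so `x_{k+d}(e a_k) ∈ XS (P ∖ {k + d})`: `zero_of`. -/
theorem lemT (hA : Cl A) (hT : Cl T) (pA : Ps v A) (pT : Ps v T) (pd : 0 < dv v d) (sA : ∀ k ∈ A, Sb T k) (sd : Sb T d)
    (id : ∀ k ∈ A, ∀ j i, Ad j k d → j ∈ T → Oc i k d → i ∈ T) (hu : u ∈ C.XS A) (he : e ≠ 0) (h : ⁅u, C.x d e⁆ ∈ C.XS T) :
    u ∈ C.XS {k | k ∈ A ∧ ∀ j, ip k d < 0 → Ad j k d → j ∈ T} := by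
  classical
  have nT := f.norm_le sA
  have nd (k : Fin 48) (hk : k ∈ A) : d ≠ k.rev := ne_rev (pA k hk).le pd
  obtain ⟨φ, φ0, φp⟩ : ∃ φ, dv φ d = 0 ∧ ∀ k ∈ A, ip k d < 0 → 0 < dv φ k :=
    have e (k : Fin 48) : dv (fun i => ip d d * v i - dv v d * ec d i) k = ip d d * dv v k - dv v d * ip k d := by simp only [dv, ip]; ring
    ⟨_, by rw [e]; ring, fun k a b => by
      have := pA k a; have := mul_pos pd (neg_pos.2 b)
      rw [e]; rcases ip_self d with z | z <;> rw [z] <;> linarith⟩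
  have cA : Cl {k | k ∈ A ∧ ip k d < 0} := fun a ha b hb j e => ⟨hA a ha.1 b hb.1 j e, by
    have := ha.2; have := hb.2
    rcases e with e | e <;> rw [ip_symm, e.ip, ip_symm d, ip_symm d] <;> omega⟩
  have key (S : Finset (Fin 48)) : (∀ k ∈ S, k ∈ A ∧ ip k d < 0) → (∀ k ∈ S, ∀ j, j ∈ A ∧ ip j d < 0 → dv φ k < dv φ j → j ∈ S) → ∀ m ∈ C.XS S, ⁅m, C.x d e⁆ ∈ C.XS T →
      m ∈ C.XS {k | k ∈ A ∧ ∀ j, ip k d < 0 → Ad j k d → j ∈ T} := by
    induction S using Finset.strongInduction with | H S ih =>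
    intro hS up m hm h1
    rcases S.eq_empty_or_nonempty with rfl | hne
    · exact C.XS_mono (by simp) hm
    obtain ⟨k, hk, mn⟩ := S.exists_min_image (dv φ) hne
    have p (b : Fin 48) (hb : b ∈ S) := φp b (hS b hb).1 (hS b hb).2
    obtain ⟨y, hy, x, hx, rfl⟩ := split (v := v) (fun a ha b hb j e => up a ha j (cA a (hS a ha) b (hS b hb) j e) (by
      have := dv_le (e.imp_right .inl) (p a ha).le (p b hb).le; have := p b hb; omega)) (fun b hb => pA b (hS b hb).1) (· = k) hm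
    obtain ⟨a, rfl⟩ := C.mem_XS_singleton.1 (C.XS_mono (fun _ h => h.2) hy)
    have e1 : ⁅C.x k a * x, C.x d e⁆ = C.x k a * ⁅x, C.x d e⁆ * (C.x k a)⁻¹ * ⁅C.x k a, C.x d e⁆ := by simp only [commutatorElement_def]; group
    have fin := ih (S.erase k) (Finset.erase_ssubset hk) (fun b hb => hS b (Finset.mem_of_mem_erase hb)) (fun b hb j q z =>
      Finset.mem_erase.2 ⟨by rintro rfl; exact (mn b (Finset.mem_of_mem_erase hb)).not_gt z, up b (Finset.mem_of_mem_erase hb) j q z⟩) x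
      (C.XS_mono (fun b hb => Finset.mem_coe.2 (Finset.mem_erase.2 ⟨hb.2, hb.1⟩)) hx)
    obtain ⟨kA, kd⟩ := hS k hk
    obtain ⟨j, ej⟩ := (ip_low k d (nd k kA)).2.2 kd
    by_cases jT : j ∈ T
    · rw [e1, mul_mem_cancel_right (f.cm_mem (nd k kA) (fun i => id k kA j i ej jT) a e), ← mem_normalizer_iff.1 (nT (C.x_mem kA a))] at h1
      exact mul_mem (C.x_mem (by exact ⟨kA, fun i _ ei => ec_inj (fun l => (ej l).trans (ei l).symm) ▸ jT⟩) a) (fin h1)
    have fj : dv φ j = dv φ k := by rw [ej.dv, φ0, add_zero]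
    have cP : Cl {i | 0 < dv v i ∧ dv φ k ≤ dv φ i} := fun a ha b hb i z => by
      have := dv_le (z.imp_right .inl) ha.1.le hb.1.le
      have := dv_le (z.imp_right .inl) ((p k hk).le.trans ha.2) ((p k hk).le.trans hb.2)
      have := ha.1; have := hb.1; have := ha.2; have := hb.2; have := p k hk
      exact ⟨by omega, by omega⟩
    have up' {a b i : Fin 48} (ha : 0 < dv v a ∧ dv φ k ≤ dv φ a) (hb : 0 < dv v b ∧ dv φ k ≤ dv φ b) (z : Ad i a b ∨ Ad2 i a b ∨ Ad2 i b a) :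
        (0 < dv v i ∧ dv φ k ≤ dv φ i) ∧ i ≠ j := by
      have := dv_le z ha.1.le hb.1.le
      have := dv_le z ((p k hk).le.trans ha.2) ((p k hk).le.trans hb.2)
      have := p k hk
      exact ⟨⟨by omega, by omega⟩, by rintro rfl; omega⟩
    have q (b : Fin 48) (hb : b ∈ S) : 0 < dv v b ∧ dv φ k ≤ dv φ b := ⟨pA b (hS b hb).1, mn b hb⟩
    have nP : C.XS S ≤ 𝐍(C.XS {i | (0 < dv v i ∧ dv φ k ≤ dv φ i) ∧ i ≠ j}) := f.norm_le fun b hb i hi =>
      ⟨ne_rev (q b hb).1.le hi.1.1, fun l z => up' hi.1 (q b hb) z.2⟩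
    have oc (b : Fin 48) (hb : b ∈ S) (i : Fin 48) (z : Ad i b d ∨ Ad2 i b d ∨ Ad2 i d b) (n : ¬ (b = k ∧ Ad i b d)) : (0 < dv v i ∧ dv φ k ≤ dv φ i) ∧ i ≠ j := by
      have := dv_le z (q b hb).1.le pd.le
      have := dv_le z (p b hb).le φ0.ge
      have := q b hb
      refine ⟨⟨by omega, by omega⟩, ?_⟩
      rintro rfl
      rcases z with z | z | z
      · exact n ⟨ec_inj fun l => add_right_cancel ((z l).symm.trans (ej l)), z⟩
      · have a1 := z.ip d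
        obtain ⟨l, el⟩ := (ip_low b d (nd b (hS b hb).1)).2.2 (hS b hb).2
        have := ls_ip el z
        rw [ej.ip, ip_symm d k, ip_symm d b] at a1
        omega
      · have := z.dv φ; have := p b hb; omega
    have h3 : ⁅x, C.x d e⁆ ∈ C.XS {i | (0 < dv v i ∧ dv φ k ≤ dv φ i) ∧ i ≠ j} := cm_ind ((C.XS_mono fun _ h => h.1).trans nP) (fun b hb t =>
      f.cm_mem (nd b (hS b hb.1).1) (fun i z => oc b hb.1 i z.2 fun y => hb.2 y.1) t e) hx
    obtain ⟨y, hy, e2⟩ : ∃ y ∈ C.XS {i | (0 < dv v i ∧ dv φ k ≤ dv φ i) ∧ i ≠ j}, ⁅C.x k a, C.x d e⁆ = C.x j (a * e) * y := by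
      have o (i : Fin 48) (z : Ad2 i k d ∨ Ad2 i d k) := oc k hk i (.inr z) fun y => by
        have := y.2.dv v; have := q k hk
        rcases z with z | z <;> have := z.dv v <;> omega
      obtain z | ⟨i, z⟩ | ⟨i, z⟩ : ip k k = ip d d ∨ (∃ i, Ad2 i k d) ∨ ∃ i, Ad2 i d k := by
        have := nd k kA
        clear * - this kd; revert k d; decide +kernel
      exacts [⟨1, one_mem _, by rw [f.cm1 z kd ej, mul_one]⟩, ⟨_, C.x_mem (o i (.inl z)) _, f.cm2 ej z a e⟩,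
        ⟨_, C.x_mem (o i (.inr z)) _, by rw [f.cm3 ej.symm z, mul_comm e a]⟩]
    have pj : 0 < dv v j := by have := ej.dv v; have := q k hk; omega
    have h4 := conj_mem_of_norm (nP (C.x_mem hk a)) h3
    have h5 : ⁅C.x k a * x, C.x d e⁆ ∈ C.XS (T ∩ {i | 0 < dv v i ∧ dv φ k ≤ dv φ i}) := (f.inf hT cP pT fun _ h => h.1).le ⟨h1, by
      rw [e1, e2]
      exact mul_mem (C.XS_mono (fun _ h => h.1) h4) (mul_mem (C.x_mem (by exact ⟨pj, fj.ge⟩) _) (C.XS_mono (fun _ h => h.1) hy))⟩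
    have h6 := C.XS_mono (T := {i | (0 < dv v i ∧ dv φ k ≤ dv φ i) ∧ i ≠ j}) (fun i hi => ⟨hi.2, by rintro rfl; exact jT hi.1⟩) h5
    rw [e1, e2, mul_mem_cancel_left h4, mul_mem_cancel_right hy] at h6
    obtain rfl : a = 0 := (mul_eq_zero_iff_right he).1 (f.zero_of (fun a ha b hb i z => up' ha.1 hb.1 (z.imp_right .inl)) (fun _ h => h.1.1) pj (fun z => z.2 rfl) h6)
    rw [C.x_zero, one_mul] at h1 ⊢
    exact fin h1
  obtain ⟨n, hn, m, hm, rfl⟩ := split hA pA (fun k => 0 ≤ ip k d) hu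
  have c : Commute n (C.x d e) := mem_cent1.1 (PreSys.XS_le.2 (fun k hk t => mem_cent1.2 (f.com hk.2 t e)) hn)
  rw [show ⁅n * m, C.x d e⁆ = n * ⁅m, C.x d e⁆ * n⁻¹ * ⁅n, C.x d e⁆ by simp only [commutatorElement_def]; group, c.commutator_eq, mul_one,
    ← mem_normalizer_iff.1 (nT (C.XS_mono (fun _ h => h.1) hn))] at h
  exact mul_mem (C.XS_mono (fun k hk => by exact ⟨hk.1, fun _ z => absurd hk.2 z.not_ge⟩) hn)
    (key (Finset.univ.filter fun k => k ∈ A ∧ ip k d < 0) (by simp) (by simp +contextual) m (C.XS_mono (fun k hk => by simpa using hk) hm) h)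
/-- `T = ∅`. -/
theorem lemB (hA : Cl A) (pA : Ps v A) (pd : 0 < dv v d) (hu : u ∈ C.XS A) (he : e ≠ 0) (h : u * C.x d e = C.x d e * u) : u ∈ C.XS {k | k ∈ A ∧ 0 ≤ ip k d} :=   C.XS_mono (fun k hk => by exact ⟨hk.1, not_lt.1 fun z => let ⟨j, e⟩ := (ip_low k d (ne_rev (pA k hk.1).le pd)).2.2 z; hk.2 j z e⟩)
    (f.lemT (T := ∅) hA (fun _ h => h.elim) pA (fun _ h => h.elim) pd (fun _ _ _ h => h.elim) (fun _ h => h.elim) (fun _ _ _ _ _ h => h.elim) hu he
      (commutatorElement_eq_one_iff_mul_comm.2 h ▸ one_mem _))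
omit f in
theorem cl_ge {D : List (Fin 48)} (hA : Cl A) : Cl {k | k ∈ A ∧ ∀ d ∈ D, 0 ≤ ip k d} := fun a ha b hb j e => ⟨hA a ha.1 b hb.1 j e, fun d hd => by
  have := ha.2 d hd; have := hb.2 d hd
  rcases e with e | e <;> rw [ip_symm, e.ip, ip_symm d, ip_symm d] <;> omega⟩
/-- Induction on `D`; `{k ∈ A | 0 ≤ (k, d)}` is closed. -/
theorem lemB' {D : List (Fin 48)} (hA : Cl A) (pA : Ps v A) (pd : ∀ d ∈ D, 0 < dv v d) (hu : u ∈ C.XS A) (h : ∀ d ∈ D, u * C.x d 1 = C.x d 1 * u) :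
    u ∈ C.XS {k | k ∈ A ∧ ∀ d ∈ D, 0 ≤ ip k d} := by
  induction D with
  | nil => simpa using hu
  | cons d D ih =>
    exact C.XS_mono (fun k hk => by exact ⟨hk.1.1, List.forall_mem_cons.2 ⟨hk.2, hk.1.2⟩⟩) (f.lemB (cl_ge hA) (fun k hk => pA k hk.1) (pd d (by simp))
      (ih (fun d hd => pd d (by simp [hd])) fun d hd => h d (by simp [hd])) one_ne_zero (h d (by simp)))
end FC

end Cfsg.Lib.F4S
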