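import Cfsg.Agent.Lib.F4S.Xd

/-!
# S3328: root tables for the folding `E₆ → F₄`.
-/

set_option autoImplicit false

namespace Cfsg.Lib.F4S

open Cfsg.Lib.Chev Cfsg.Lib.Twisted

theorem pos_lin (k : Fin 48) : 24 ≤ k ↔ 0 < ∑ i, ![8, 3, 2, 1] i * ec k i := by revert k; decide +kernel
theorem neg_lin (k : Fin 48) : ¬ 24 ≤ k ↔ 0 < ∑ i, ![-8, -3, -2, -1] i * ec k i := by revert k; decide +kernel
theorem ec_rev (r : Fin 48) (i : Fin 4) : ec r.rev i = -ec r i := by revert r i; decide +kernel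
theorem sh_rev (r : Fin 48) : sh r.rev ↔ sh r := by revert r; decide +kernel
set_option synthInstance.maxSize 2000 in
theorem cm_cases : ∀ r k : Fin 48, k ≠ r.rev → Cm0 r k ∨ (sh r ∧ sh k ∨ ¬ sh r ∧ ¬ sh k) ∧ (∃ j, Ad j r k) ∨
    (¬ sh r ∧ sh k ∧ ∃ j, Ad j r k ∧ sh j ∧ ∃ i, Ad2 i r k) ∨ ¬ sh k ∧ sh r ∧ ∃ j, Ad j k r ∧ sh j ∧ ∃ i, Ad2 i k r := by decide +kernel
/-- The root of `F₄` under a root of `E₆`. -/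
def pr : Fin 72 → Fin 48 := ![0, 1, 2, 3, 7, 3, 4, 8, 5, 9, 11, 6, 10, 12, 13, 14, 7, 8, 15, 9, 16, 18, 11, 18, 21, 23, 10, 17, 19, 20, 12, 19, 22, 13, 20, 14, 33, 27,
  34, 25, 28, 35, 27, 28, 30, 37, 24, 26, 29, 36, 29, 31, 38, 32, 39, 40, 33, 34, 35, 37, 41, 36, 38, 42, 39, 43, 44, 40, 44, 45, 46, 47]
/-- The projection of the root lattices. -/
def pj (n : Fin 6 → ℤ) : Fin 4 → ℤ := ![n 0 + n 5, 2 * n 1 - (n 0 + n 5), 2 * n 3 - 2 * n 1 - (n 0 + n 5), 2 * (n 2 + n 4) - 2 * n 3 - (n 0 + n 5)]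
theorem pr_f1 (r : Fin 48) : pr (f1 r) = r := by revert r; decide +kernel
theorem pr_t6 (e : Fin 72) : pr (t6 e) = pr e := by revert e; decide +kernel
theorem pr_cases (e : Fin 72) : e = f1 (pr e) ∨ sh (pr e) ∧ e = t6 (f1 (pr e)) := by revert e; decide +kernel
theorem sh_iff (r : Fin 48) : sh r ↔ t6 (f1 r) ≠ f1 r := by revert r; decide +kernel
theorem ec_pr (e : Fin 72) : ec (pr e) = pj (RE6.α e) := by
  rw [funext (a6_eq e)]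
  revert e
  decide +kernel
theorem f1_rev (r : Fin 48) : f1 r.rev = t6 (f1 r).rev := by revert r; decide +kernel
theorem t6_t6 (e : Fin 72) : t6 (t6 e) = e := by revert e; decide +kernel
theorem pr_pos (e : Fin 72) : 24 ≤ pr e ↔ RE6.IsPos e := by rw [pos6]; revert e; decide +kernel

theorem tb_com : ∀ r k : Fin 48, Cm0 r k → 0 ≤ p6 (f1 r) (f1 k) ∧ 0 ≤ p6 (f1 r) (t6 (f1 k)) ∧ 0 ≤ p6 (t6 (f1 r)) (f1 k) ∧
    0 ≤ p6 (t6 (f1 r)) (t6 (f1 k)) := by decide +kernel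
theorem tb_ss : ∀ r, sh r → ∀ k, sh k → ∀ j, Ad j r k → (sh j → (∀ i, a6 (t6 (f1 j)) i = a6 (f1 r) i + a6 (f1 k) i) ∧
    (∀ i, a6 (f1 j) i = a6 (t6 (f1 r)) i + a6 (t6 (f1 k)) i) ∧ 0 ≤ p6 (f1 r) (t6 (f1 k)) ∧ 0 ≤ p6 (f1 k) (t6 (f1 r))) ∧
    (¬ sh j → (∀ i, a6 (f1 j) i = a6 (f1 r) i + a6 (t6 (f1 k)) i) ∧ (∀ i, a6 (f1 j) i = a6 (t6 (f1 r)) i + a6 (f1 k) i) ∧ 0 ≤ p6 (f1 r) (f1 k) ∧
      0 ≤ p6 (t6 (f1 k)) (t6 (f1 r))) := by decide +kernel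
theorem tb_ll : ∀ r, ¬ sh r → ∀ k, ¬ sh k → ∀ j, Ad j r k → ¬ sh j ∧ ∀ i, a6 (f1 j) i = a6 (f1 r) i + a6 (f1 k) i := by decide +kernel
set_option synthInstance.maxSize 2000 in
theorem tb_ls : ∀ r, ¬ sh r → ∀ k, sh k → ∀ j, Ad j r k → sh j ∧ (∀ i, a6 (f1 j) i = a6 (f1 r) i + a6 (f1 k) i) ∧
    (∀ i, a6 (t6 (f1 j)) i = a6 (f1 r) i + a6 (t6 (f1 k)) i) ∧ ∀ l, Ad2 l r k → ¬ sh l ∧ (∀ i, a6 (f1 l) i = a6 (f1 k) i + a6 (t6 (f1 j)) i) ∧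
      0 ≤ p6 (f1 l) (t6 (f1 j)) := by decide +kernel

theorem tb_refl : ∀ r e, if sh r then p6 (f1 r) e + p6 (t6 (f1 r)) e = ip r (pr e) / 2 else p6 (f1 r) e = ip r (pr e) / 4 := by decide +kernel
theorem tb_a2 : ∀ r : Fin 48, ∃ i, (sh i ↔ sh r) ∧ ∃ j, (sh j ↔ sh r) ∧ Ad r i j := by decide +kernel
theorem tb_a2' : ∀ r k : Fin 48, k = r ∨ k = r.rev → ∃ i, i ≠ r ∧ i ≠ r.rev ∧ (sh i ↔ sh r) ∧ ∃ j, Ad k i j ∧ j ≠ r ∧ j ≠ r.rev ∧ (sh j ↔ sh r) := by decide +kernel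
theorem tb_t6 : ∀ r : Fin 48, sh r → 0 ≤ p6 (f1 r) (t6 (f1 r)) := by decide +kernel
theorem tb_cs : ∀ r k : Fin 48, k ≠ r → k ≠ r.rev → ip r k * ip r k < ip r r * ip k k := by decide +kernel

end Cfsg.Lib.F4S
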